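import Cfsg.Agent.HNAut3.BetaChecks
import Cfsg.Agent.HN133.Rep
import Cfsg.Prelude.Def_KGroupFacts
import Cfsg.Agent.Eq.Def_KGroupFacts

/-!
The outer automorphism `x, y, z, t ↦ x, y, z x², t²` of the presented Harada–Norton group, given
that the 133-dimensional representation is faithful.
-/

set_option autoImplicit false
set_option maxRecDepth 100000

namespace CfsgLib.HNAut3

open CfsgLib.HN133 Cfsg.Spor Cfsg.Spor.HN

/-- the generators of the presented group -/
noncomputable def gx : Cfsg.Spor.HN := PresentedGroup.of Gen.x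
/-- the generators of the presented group -/
noncomputable def gy : Cfsg.Spor.HN := PresentedGroup.of Gen.y
/-- the generators of the presented group -/
noncomputable def gz : Cfsg.Spor.HN := PresentedGroup.of Gen.z
/-- the generators of the presented group -/
noncomputable def gt : Cfsg.Spor.HN := PresentedGroup.of Gen.t

theorem dig_slot : ∀ (n : ℕ) (d : ℕ → ℕ), (∀ j, d j < HN133.B) → ∀ j < n,
    slot (dig n d) j = d j
  | 0, _, _, j, hj => absurd hj (Nat.not_lt_zero j)
  | n + 1, d, hd, 0, _ => by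
    rw [slot, dig, pow_zero, Nat.div_one, Nat.add_mul_mod_self_left, Nat.mod_eq_of_lt (hd 0)]
  | n + 1, d, hd, j + 1, hj => by
    rw [slot, dig, pow_succ', ← Nat.div_div_eq_div_mul,
      Nat.add_mul_div_left _ _ (by norm_num : 0 < HN133.B), Nat.div_eq_of_lt (hd 0), Nat.zero_add]
    exact dig_slot n _ (fun i => hd (i + 1)) j (Nat.lt_of_succ_lt_succ hj)

theorem trace_of_rep {L : List (List ℕ)} {P : Matrix (Fin 133) (Fin 133) (ZMod 29)}
    (hL : Rep L P) : P.trace = ((traceS L : ℕ) : ZMod 29) := by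
  have hsum : ∀ (m : ℕ) (f : ℕ → ZMod 29), ((List.range m).map f).sum = ∑ i : Fin m, f i := by
    intro m f
    rw [Fin.sum_univ_eq_sum_range f]
    induction m with
    | zero => simp
    | succ m ih => simp [List.range_succ, Finset.sum_range_succ, ih]
  rw [traceS, ZMod.natCast_mod, Nat.cast_list_sum, List.map_map, hsum, Matrix.trace]
  refine Finset.sum_congr rfl fun i _ => ?_
  rw [Function.comp_apply, hL i, dig_slot 133 _ (fun j => ?_) i i.isLt, dif_pos i.isLt]
  · simp [Matrix.diag]
  · split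
    · exact lt_of_lt_of_le (ZMod.val_lt _) (by norm_num)
    · norm_num

/-- the image of a signed letter -/
noncomputable def imgB (p : Gen × Bool) : Matrix (Fin 133) (Fin 133) (ZMod 29) :=
  ((encB p).map M).prod

theorem rel_allB : ∀ i, i < 14 → idOK (relWordB i) = true := by
  intro i hi
  rcases Nat.lt_or_ge i 6 with h | h
  · have := List.all_eq_true.1 relB_same i (List.mem_range.2 h)
    rw [beq_iff_eq] at this
    rw [this]
    exact rel_all i (by omega)
  · interval_cases i
    exacts [relB6, relB7, relB8, relB9, relB10, relB11, relB12, relB13]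

theorem gen_words {A : Type*} [Monoid A] (f : ℕ → A) :
    ((HN133.enc (Gen.z, true)).map f).prod * ((HN133.enc (Gen.x, true)).map f).prod ^ 2 =
      ((encB (Gen.z, true)).map f).prod ∧
    ((HN133.enc (Gen.t, true)).map f).prod ^ 2 = ((encB (Gen.t, true)).map f).prod ∧
    ((HN133.enc (Gen.x, true)).map f).prod ^ 4 = ([0, 0, 0, 0].map f).prod ∧
    ((HN133.enc (Gen.x, true)).map f).prod ^ 2 * ((HN133.enc (Gen.z, true)).map f).prod =
      ([0, 0, 4].map f).prod ∧
    ((HN133.enc (Gen.z, true)).map f).prod * ((HN133.enc (Gen.x, true)).map f).prod ^ 2 =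
      ([4, 0, 0].map f).prod ∧
    ((HN133.enc (Gen.y, true)).map f).prod * ((HN133.enc (Gen.z, true)).map f).prod =
      ([2, 4].map f).prod ∧
    ((HN133.enc (Gen.y, true)).map f).prod *
        (((HN133.enc (Gen.z, true)).map f).prod * ((HN133.enc (Gen.x, true)).map f).prod ^ 2) =
      ([2, 4, 0, 0].map f).prod := by
  simp [encB, HN133.enc, pow_succ, mul_assoc]

theorem prod_eq_of_same {w w' : List ℕ} (h : sameS (runM matL w) (runM matL w') = true) :
    (w.map M).prod = (w'.map M).prod :=
  rep_eq_of_same (rep_runM matL w fun x _ => shape_all x)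
    (rep_runM matL w' fun x _ => shape_all x) h

theorem traceS_eq {w w' : List ℕ} (h : ((w.map M).prod).trace = ((w'.map M).prod).trace) :
    (traceS (runM matL w) == traceS (runM matL w')) = true := by
  have key : ∀ v : List ℕ, ((v.map M).prod).trace = ((traceS (runM matL v) : ℕ) : ZMod 29) :=
    fun v => trace_of_rep (rep_runM matL v fun x _ => shape_all x)
  rw [key w, key w'] at h
  have e := congrArg ZMod.val h
  have hlt : ∀ L, traceS L < 29 := fun L => Nat.mod_lt _ (by norm_num)
  rw [ZMod.val_natCast, ZMod.val_natCast, Nat.mod_eq_of_lt (hlt _), Nat.mod_eq_of_lt (hlt _)] at e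
  exact beq_iff_eq.2 e

/-- the images of the generators -/
noncomputable def bval : Gen → Cfsg.Spor.HN
  | .x => gx
  | .y => gy
  | .z => gz * gx ^ 2
  | .t => gt ^ 2

theorem rep_of (g : Gen) : (rep (PresentedGroup.of g)).1 = ((HN133.enc (g, true)).map M).prod := by
  rw [show rep (PresentedGroup.of g) = HN133.gen g from PresentedGroup.toGroup.of relators_one]
  rfl

theorem bval_rep (g : Gen) (b : Bool) :
    ((rep (bval g)) ^ (if b then (1 : ℤ) else -1)).1 = imgB (g, b) := by
  have hpos : ∀ g : Gen, (rep (bval g)).1 = imgB (g, true) := by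
    intro g
    cases g
    · exact rep_of _
    · exact rep_of _
    · show (rep (gz * gx ^ 2)).1 = _
      rw [map_mul, map_pow, Units.val_mul, Units.val_pow_eq_pow_val, gz, gx, rep_of, rep_of]
      exact (gen_words M).1
    · show (rep (gt ^ 2)).1 = _
      rw [map_pow, Units.val_pow_eq_pow_val, gt, rep_of]
      exact (gen_words M).2.1
  cases b
  · rw [if_neg Bool.false_ne_true, zpow_neg, zpow_one]
    refine Units.inv_eq_of_mul_eq_one_right ?_
    rw [hpos, imgB, imgB, ← List.prod_append, ← List.map_append]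
    cases g
    · exact inverse_word (by decide)
    · exact inverse_word (by decide)
    · exact prod_one (List.all_eq_true.1 inversesB _ (by decide))
    · exact prod_one (List.all_eq_true.1 inversesB _ (by decide))
  · rw [if_pos rfl, zpow_one, hpos]

theorem liftB_val (r : FreeGroup Gen) :
    (FreeGroup.lift (fun g => rep (bval g)) r).1 = ((r.toWord.flatMap encB).map M).prod := by
  conv_lhs => rw [← FreeGroup.mk_toWord (x := r), FreeGroup.lift_mk]
  induction r.toWord with
  | nil => simp
  | cons p l ih =>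
    obtain ⟨g, b⟩ := p
    rw [List.map_cons, List.prod_cons, List.flatMap_cons, List.map_append, List.prod_append,
      Units.val_mul, ih]
    congr 1
    have := bval_rep g b
    cases b <;> simpa [imgB] using this

variable (hinj : Function.Injective rep)
include hinj

/-- the endomorphism of the generators -/
noncomputable def betaHom : Cfsg.Spor.HN →* Cfsg.Spor.HN :=
  PresentedGroup.toGroup (f := bval) fun r hr => by
    have hr' : r ∈ extra := by simpa [coxRelators, coxNodes, edges] using hr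
    obtain ⟨i, hi, rfl⟩ := List.getElem_of_mem hr'
    refine hinj ?_
    have hc : rep.comp (FreeGroup.lift bval) = FreeGroup.lift (fun g => rep (bval g)) :=
      FreeGroup.ext_hom _ _ fun g => by simp
    rw [map_one, show rep (FreeGroup.lift bval extra[i]) =
      FreeGroup.lift (fun g => rep (bval g)) extra[i] from DFunLike.congr_fun hc _]
    · refine Units.ext ?_
      rw [liftB_val, ← List.getD_eq_getElem extra 1 hi]
      exact prod_one (rel_allB i (lt_of_lt_of_le hi (le_of_eq rfl)))

theorem betaHom_of (g : Gen) : betaHom hinj (PresentedGroup.of g) = bval g :=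
  PresentedGroup.toGroup.of _

omit hinj in
theorem eval_mk (r : FreeGroup Gen) (w : List ℕ)
    (h : r.toWord.flatMap HN133.enc = w) :
    (rep (PresentedGroup.mk _ r : Cfsg.Spor.HN)).1 = (w.map M).prod := by
  rw [rep_mk, lift_val, h]

theorem t_rels : gx ^ 4 = 1 ∧ gt ^ 5 = 1 ∧ gx⁻¹ * gt * gx * gt ^ 2 = 1 ∧
    gx ^ 2 * gy * gx ^ 2 * gy⁻¹ = 1 := by
  have rel : ∀ r ∈ extra, (PresentedGroup.mk (coxRelators edges ∪ {r | r ∈ extra}) r :
      Cfsg.Spor.HN) = 1 := fun r hr => PresentedGroup.one_of_mem (Or.inr hr)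
  refine ⟨hinj ?_, ?_, ?_, ?_⟩
  · refine Units.ext ?_
    rw [map_pow, map_one, Units.val_pow_eq_pow_val, Units.val_one, gx, rep_of]
    rw [(gen_words M).2.2.1]
    exact prod_one (w := [0, 0, 0, 0]) (by decide +kernel)
  · have e := rel (extra[10]'(by simp [extra])) (List.getElem_mem _)
    change (PresentedGroup.mk _ (Cfsg.Spor.HN.t ^ 5) : Cfsg.Spor.HN) = 1 at e
    rw [map_pow] at e
    exact e
  · have e := rel (extra[11]'(by simp [extra])) (List.getElem_mem _)
    change (PresentedGroup.mk _ ((x⁻¹ * t * x) * (t ^ 2)) : Cfsg.Spor.HN) = 1 at e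
    rw [map_mul, map_mul, map_mul, map_inv, map_pow] at e
    exact e
  · have e := rel (extra[1]'(by simp [extra])) (List.getElem_mem _)
    change (PresentedGroup.mk _ ((x ^ 2) * y * (x ^ 2) * (y⁻¹)) : Cfsg.Spor.HN) = 1 at e
    rw [map_mul, map_mul, map_mul, map_inv, map_pow] at e
    exact e

theorem z_comm : gx ^ 2 * gz = gz * gx ^ 2 := by
  refine hinj (Units.ext ?_)
  rw [map_mul, map_mul, map_pow, Units.val_mul, Units.val_mul, Units.val_pow_eq_pow_val, gx, gz,
    rep_of, rep_of]
  rw [(gen_words M).2.2.2.1, (gen_words M).2.2.2.2.1]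
  exact prod_eq_of_same (by decide +kernel)

theorem t_cube : gx⁻¹ * gt * gx = gt ^ 3 := by
  obtain ⟨-, h5, h, -⟩ := t_rels hinj
  rw [eq_inv_of_mul_eq_one_left h]
  exact inv_eq_of_mul_eq_one_right (by rw [← pow_add, h5])

theorem x_sq_t : gx ^ 2 * gt * (gx ^ 2)⁻¹ = gt ^ 4 := by
  obtain ⟨hx4, h5, -, -⟩ := t_rels hinj
  have h3 := t_cube hinj
  have e : (gx ^ 2)⁻¹ * gt * gx ^ 2 = gt ^ 4 := by
    calc (gx ^ 2)⁻¹ * gt * gx ^ 2 = gx⁻¹ * (gx⁻¹ * gt * gx) * gx := by
          rw [pow_two, mul_inv_rev]; simp only [mul_assoc]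
      _ = gx⁻¹ * gt ^ 3 * gx := by rw [h3]
      _ = (gx⁻¹ * gt * gx) ^ 3 := by
          simpa using (conj_pow (i := 3) (a := gx⁻¹) (b := gt)).symm
      _ = gt ^ 9 := by rw [h3, ← pow_mul]
      _ = gt ^ 4 := by rw [show 9 = 5 + 4 from rfl, pow_add, h5, one_mul]
  rwa [inv_eq_of_mul_eq_one_right (show gx ^ 2 * gx ^ 2 = 1 by rw [← pow_add]; exact hx4)] at e ⊢

theorem beta_beta : (betaHom hinj).comp (betaHom hinj) = (MulAut.conj (gx ^ 2)).toMonoidHom := by
  refine PresentedGroup.ext fun g => ?_
  obtain ⟨hx4, -, -, hxy⟩ := t_rels hinj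
  have hx : betaHom hinj gx = gx := betaHom_of hinj _
  have hx2 : (gx ^ 2)⁻¹ = gx ^ 2 := inv_eq_of_mul_eq_one_right (by rw [← pow_add]; exact hx4)
  show betaHom hinj (betaHom hinj (PresentedGroup.of g)) =
    gx ^ 2 * PresentedGroup.of g * (gx ^ 2)⁻¹
  rw [betaHom_of]
  cases g
  · show betaHom hinj gx = gx ^ 2 * gx * (gx ^ 2)⁻¹
    rw [hx]; group
  · show betaHom hinj gy = gx ^ 2 * gy * (gx ^ 2)⁻¹
    rw [hx2, gy, betaHom_of]
    exact (mul_inv_eq_one.1 hxy).symm
  · show betaHom hinj (gz * gx ^ 2) = gx ^ 2 * gz * (gx ^ 2)⁻¹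
    rw [map_mul, map_pow, hx, show betaHom hinj gz = gz * gx ^ 2 from betaHom_of hinj _,
      z_comm hinj, mul_inv_cancel_right, mul_assoc, ← pow_add, hx4, mul_one]
  · show betaHom hinj (gt ^ 2) = gx ^ 2 * gt * (gx ^ 2)⁻¹
    rw [map_pow, show betaHom hinj gt = gt ^ 2 from betaHom_of hinj _, ← pow_mul, x_sq_t hinj]

/-- the outer automorphism -/
noncomputable def beta : MulAut Cfsg.Spor.HN :=
  MulEquiv.ofBijective (betaHom hinj) (by
    have h := beta_beta hinj
    have hb : Function.Bijective ((betaHom hinj) ∘ (betaHom hinj)) := by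
      have : ⇑((betaHom hinj).comp (betaHom hinj)) = ⇑(MulAut.conj (gx ^ 2)) := by
        rw [h]; rfl
      rw [MonoidHom.coe_comp] at this
      rw [this]
      exact (MulAut.conj (gx ^ 2)).bijective
    exact ⟨hb.1.of_comp, hb.2.of_comp⟩)

theorem beta_apply (g : Gen) : beta hinj (PresentedGroup.of g) = bval g := betaHom_of hinj g

theorem beta_not_inner : beta hinj ∉ Cfsg.Inn Cfsg.Spor.HN := by
  rintro ⟨a, ha⟩
  have e : beta hinj (gy * gz) = a * (gy * gz) * a⁻¹ := by rw [← ha]; rfl
  rw [map_mul, show beta hinj gy = gy from beta_apply hinj _,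
    show beta hinj gz = gz * gx ^ 2 from beta_apply hinj _] at e
  have e1 := congrArg (fun b => (rep b).1.trace) e
  simp only [map_mul, map_inv, map_pow] at e1
  rw [Units.val_mul (rep a * _), Units.val_mul (rep a), Matrix.trace_units_conj] at e1
  simp only [Units.val_mul, Units.val_pow_eq_pow_val, gx, gy, gz, rep_of] at e1
  rw [(gen_words M).2.2.2.2.2.2, (gen_words M).2.2.2.2.2.1] at e1
  exact Bool.false_ne_true (trace_diff.symm.trans (traceS_eq e1.symm))

end CfsgLib.HNAut3
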