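import Cfsg.Agent.HN133.Checks

/-!
Kernel checks in the 133-dimensional representation for the outer automorphism
`x, y, z, t ↦ x, y, z x², t²` of the presented Harada–Norton group.
-/

set_option autoImplicit false
set_option maxRecDepth 100000

namespace CfsgLib.HNAut3

open CfsgLib.HN133 Cfsg.Spor.HN

/-- the matrix word of the image of a signed letter -/
def encB : Gen × Bool → List ℕ
  | (.x, b) => enc (.x, b)
  | (.y, b) => enc (.y, b)
  | (.z, _) => [4, 0, 0]
  | (.t, true) => [5, 5]
  | (.t, false) => [5, 5, 5]

/-- the matrix word of the image of a relator -/
def relWordB (i : ℕ) : List ℕ := (FreeGroup.toWord (extra.getD i 1)).flatMap encB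

theorem relB_same : ((List.range 6).all fun i => relWordB i == relWord i) = true := by
  decide +kernel

theorem relB6 : idOK (relWordB 6) = true := by decide +kernel

theorem relB7 : idOK (relWordB 7) = true := by decide +kernel

theorem relB8 : idOK (relWordB 8) = true := by decide +kernel

theorem relB9 : idOK (relWordB 9) = true := by decide +kernel

theorem relB10 : idOK (relWordB 10) = true := by decide +kernel

theorem relB11 : idOK (relWordB 11) = true := by decide +kernel

theorem relB12 : idOK (relWordB 12) = true := by decide +kernel

theorem relB13 : idOK (relWordB 13) = true := by decide +kernel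

theorem inversesB : ([[4, 0, 0, 4, 0, 0], [5, 5, 5, 5, 5]].all idOK) = true := by decide +kernel

/-- one slot of a packed row -/
def slot (n j : ℕ) : ℕ := n / B ^ j % B

/-- the trace of a packed state, as a natural number -/
def traceS (L : List (List ℕ)) : ℕ := ((List.range 133).map fun i => slot (HN133.get L i) i).sum % 29

theorem trace_diff : (traceS (runM matL [2, 4]) == traceS (runM matL [2, 4, 0, 0])) = false := by
  decide +kernel

end CfsgLib.HNAut3
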