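import Cfsg.Agent.HNAut3.Main
import Cfsg.Agent.HNOrder54.Index
import Cfsg.Agent.HNOrder51.CoverOK
import Cfsg.Agent.HNOrder51.Inj
import Cfsg.Agent.HNOrder54.Simple
import Cfsg.Agent.HNOrder54.NormalProp

/-!
The hypotheses of `card_out` in the form the coset enumeration provides them.
-/

set_option autoImplicit false
set_option linter.style.haveILetI false

namespace CfsgLib.HNAut3

open Cfsg CfsgLib.HN51

theorem Stab_eq (a : ℕ) : Stab a = HNOrder54.stab HN51.Nsub (ev (dw a)) := by
  ext n
  rw [mem_Stab, HNOrder54.mem_stab]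

theorem orbitLen_of_nodeCard (h : ∀ a ∈ aliveNodes, HNOrder54.nodeCard a = orbLen a) :
    OrbitLen := fun a ha => by
  rw [Stab_eq, HNOrder54.stab, MulAction.index_stabilizer, ← Nat.card_coe_set_eq]
  exact h a ha

theorem orbitLen_of (hF : HN51.Faith) (hC : HN51.CFix) : OrbitLen :=
  orbitLen_of_nodeCard fun a ha => by
    simp only [aliveNodes, List.mem_cons, List.not_mem_nil, or_false] at ha
    rcases ha with rfl | rfl | rfl | rfl | rfl | rfl | rfl | rfl | rfl
    exacts [HNOrder54.nodeCard_zero, HNOrder54.card_node1 hF hC, HNOrder54.card_node2 hF hC,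
      HNOrder54.card_node3 hF hC, HNOrder54.card_node5 hF hC, HNOrder54.card_node6 hF hC,
      HNOrder54.card_node7 hF hC, HNOrder54.card_node8 hF hC, HNOrder54.card_node9 hF hC]

theorem cover_of (hF : HN51.Faith) (hC : HN51.CFix) : Cover := fun g => by
  obtain ⟨a, ha, w, hw, h⟩ := HN51.cover hF hC g
  exact ⟨a, ha, ev w, ev_mem hw, h⟩

theorem rep_injective_of_simple [IsSimpleGroup Cfsg.Spor.HN] :
    Function.Injective HN133.rep := by
  rw [← MonoidHom.ker_eq_bot_iff]
  refine (Subgroup.Normal.eq_bot_or_eq_top HN133.rep.normal_ker).resolve_right fun h => ?_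
  have hX : HN133.rep (X ^ 2) = 1 := MonoidHom.mem_ker.1 (h ▸ Subgroup.mem_top _)
  have e : (HN133.rep (ev [0, 0])).1 = (HN133.rep (ev [])).1 := by
    rw [ev_nil, map_one, show ev [0, 0] = X ^ 2 by simp [ev, HN51.gen, pow_two], hX]
  rw [rep_ev (w := [0, 0]) rfl, rep_ev (w := []) rfl] at e
  exact HN133.prod_ne (w := [0, 0]) (w' := []) HN133.xx_ne e

/-- The outer automorphism group has order two, given the bound on the first ten relations. -/
theorem card_out_of_bound (hb : HNCover80.TenBound) : Nat.card (Cfsg.Out Cfsg.Spor.HN) = 2 := by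
  have hb' : HN51.Bound10 := fun P _ x y z h h' => hb P x y z h h'
  have hF := HN51.faith hb'
  have hC := HN51.cfix hb'
  haveI : IsSimpleGroup Cfsg.Spor.HN :=
    HNOrder54.simple hF hC (HN51.cover hF hC) (HNOrder54.normalProp hb)
  exact card_out hb (cover_of hF hC) (orbitLen_of hF hC) hC rep_injective_of_simple

end CfsgLib.HNAut3
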