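import Cfsg.Agent.HSGraph.SporHS
import Cfsg.Agent.HSOut.Main
import Cfsg.Agent.Mathieu.Classes
import Cfsg.Agent.Mathieu.Subgroups

/-!
Groups with a normal subgroup of index two isomorphic to HS and trivial centralizer: every
automorphism of the normal subgroup is a conjugation, and no involution commutes with an
element of order eleven.
-/

set_option autoImplicit false
set_option linter.style.haveILetI false

open scoped Pointwise

namespace CfsgLib.HNAut3

open Cfsg CfsgLib.Golay CfsgLib.Mathieu CfsgLib.DesignUnique CfsgLib.HSGraph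

/-- No element of order two in M24 commutes with one of order eleven. -/
theorem eq_one_of_commutes_eleven {g h : Equiv.Perm GolayPt} (hg : g ∈ M24) (hh : h ∈ M24)
    (h11 : orderOf g = 11) (h2 : h * h = 1) (hc : h * g = g * h) : h = 1 := by
  by_contra hne
  have ho : orderOf h = 2 := by
    refine orderOf_eq_prime (by rw [pow_two, h2]) hne
  rcases exists_conj_involution hh ho with ⟨h0, -⟩ | ⟨h8, -⟩
  · have hfree : ∀ p, h p ≠ p := fun p hp => by
      have := Finset.card_pos.2 ⟨p, mem_fixedPts.2 hp⟩
      omega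
    obtain ⟨hcard, -⟩ := centFree hh ho hfree
    have hmem : g ∈ centM24 h := mem_centM24.2 ⟨hg, hc.symm⟩
    have hdvd : orderOf (⟨g, hmem⟩ : centM24 h) ∣ Nat.card (centM24 h) := orderOf_dvd_natCard _
    rw [← Subgroup.orderOf_coe, h11, hcard] at hdvd
    revert hdvd
    decide
  · have hmap : ∀ p, g p ∈ fixedPts h ↔ p ∈ fixedPts h := by
      intro p
      rw [mem_fixedPts, mem_fixedPts, ← Equiv.Perm.mul_apply, hc, Equiv.Perm.mul_apply]
      exact g.injective.eq_iff
    let s : Equiv.Perm (fixedPts h) := g.subtypePerm hmap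
    haveI : Fact (Nat.Prime 11) := ⟨by norm_num⟩
    have hs : s = 1 := by
      have h1 : orderOf s ∣ 11 := orderOf_dvd_of_pow_eq_one (by
        ext x
        have e : g ^ 11 = 1 := h11 ▸ pow_orderOf_eq_one g
        simp [s, Equiv.Perm.subtypePerm_pow, e])
      have h3 : orderOf s ∣ Nat.factorial 8 := by
        have := orderOf_dvd_natCard s
        rwa [Nat.card_eq_fintype_card, Fintype.card_perm, Fintype.card_coe, h8] at this
      rcases (Nat.dvd_prime (by norm_num : Nat.Prime 11)).1 h1 with h | h
      · exact orderOf_eq_one_iff.1 h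
      · rw [h] at h3
        exact absurd h3 (by decide)
    have hsub : fixedPts h ⊆ fixedPts g := fun p hp => by
      have := congrArg (fun t : Equiv.Perm (fixedPts h) => (t ⟨p, hp⟩ : GolayPt)) hs
      exact mem_fixedPts.2 (by simpa [s] using this)
    have := Finset.card_le_card hsub
    rw [h8, fixedPts_eleven hg h11] at this
    omega

/-- The same in the automorphism group of the standard graph. -/
theorem eq_one_of_commutes_eleven_graph {u n : HSOut.GraphAut} (hu : u ∈ evenAut)
    (h11 : orderOf u = 11) (hn : n * n = 1) (hc : n * u = u * n) : n = 1 := by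
  classical
  letI : Fintype std22 := Fintype.ofFinite _
  haveI : Fact (Nat.Prime 11) := ⟨by norm_num⟩
  have hpow : (⟨u, hu⟩ : evenAut) ^ 11 = 1 := by
    ext1
    simpa using (h11 ▸ pow_orderOf_eq_one u : u ^ 11 = 1)
  have hp : (MulAction.toPermHom evenAut HSOut.Vert ⟨u, hu⟩) ^ (11 ^ 1) = 1 := by
    rw [pow_one, ← map_pow, hpow, map_one]
  obtain ⟨v, hv⟩ := Equiv.Perm.exists_fixed_point_of_prime (p := 11) (n := 1)
    (by rw [← Nat.card_eq_fintype_card, HSOut.card_vert.2]; norm_num) hp
  have hv' : (⟨u, hu⟩ : evenAut) • v = v := hv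
  have hu11 : orderOf (⟨u, hu⟩ : evenAut) = 11 := by rw [← Subgroup.orderOf_coe]; exact h11
  have hnv : n v = v := by
    refine HSOut.fixed_unique hu11 hv' ?_
    show u (n v) = n v
    have := congrArg (fun f : HSOut.GraphAut => f v) hc
    simp only [RelIso.mul_apply] at this
    rw [← this]
    exact congrArg n hv'
  obtain ⟨k, hk⟩ := MulAction.exists_smul_eq evenAut (none : HSOut.Vert) v
  set c : HSOut.GraphAut := (k : HSOut.GraphAut) with hcdef
  have hk' : c (none : HSOut.Vert) = v := hk
  have hstab : ∀ f : HSOut.GraphAut, f v = v →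
      c⁻¹ * f * c ∈ MulAction.stabilizer HSOut.GraphAut (none : HSOut.Vert) := by
    intro f hf
    rw [MulAction.mem_stabilizer_iff]
    show (c⁻¹ * f * c) none = none
    simp only [RelIso.mul_apply, hk', hf]
    rw [← hk']
    exact RelIso.inv_apply_self c _
  let U : setSystemAut std22 := stabEquiv.symm ⟨_, hstab u hv'⟩
  let N : setSystemAut std22 := stabEquiv.symm ⟨_, hstab n hnv⟩
  have hUord : orderOf (autEquiv22 U : Equiv.Perm GolayPt) = 11 := by
    rw [Subgroup.orderOf_coe, MulEquiv.orderOf_eq, MulEquiv.orderOf_eq, ← Subgroup.orderOf_coe]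
    show orderOf (c⁻¹ * u * c) = 11
    rw [show c⁻¹ * u * c = (MulAut.conj c⁻¹) u by simp, MulEquiv.orderOf_eq, h11]
  have hN2 : N * N = 1 := by
    rw [← map_mul]
    refine (map_eq_one_iff _ stabEquiv.symm.injective).2 (Subtype.ext ?_)
    show c⁻¹ * n * c * (c⁻¹ * n * c) = 1
    rw [show c⁻¹ * n * c * (c⁻¹ * n * c) = c⁻¹ * (n * n) * c by group, hn]
    group
  have hNU : N * U = U * N := by
    rw [← map_mul, ← map_mul]
    congr 1
    refine Subtype.ext ?_
    show c⁻¹ * n * c * (c⁻¹ * u * c) = c⁻¹ * u * c * (c⁻¹ * n * c)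
    rw [show c⁻¹ * n * c * (c⁻¹ * u * c) = c⁻¹ * (n * u) * c by group,
      show c⁻¹ * u * c * (c⁻¹ * n * c) = c⁻¹ * (u * n) * c by group, hc]
  have key := eq_one_of_commutes_eleven (autEquiv22 U).2.1 (autEquiv22 N).2.1 hUord
    (by rw [← Subgroup.coe_mul, ← map_mul, hN2, map_one]; rfl)
    (by rw [← Subgroup.coe_mul, ← map_mul, hNU, map_mul, Subgroup.coe_mul])
  have hN1 : N = 1 := autEquiv22.injective (Subtype.ext (by rw [key, map_one]; rfl))
  have h' : (⟨_, hstab n hnv⟩ : MulAction.stabilizer HSOut.GraphAut (none : HSOut.Vert)) = 1 :=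
    (map_eq_one_iff _ stabEquiv.symm.injective).1 hN1
  have h'' : c⁻¹ * n * c = 1 := congrArg Subtype.val h'
  calc n = c * (c⁻¹ * n * c) * c⁻¹ := by group
    _ = 1 := by rw [h'']; group

section generic

variable {W : Type*} [Group W] [Finite W] (K : Subgroup W) [K.Normal] (e : K ≃* ↥Spor.HS)
  (hC : Subgroup.centralizer (K : Set W) = ⊥) (hidx : K.index = 2)

omit [Finite W] in
include hC in
theorem conjNormal_injective : Function.Injective (MulAut.conjNormal : W →* MulAut K) := by
  refine (injective_iff_map_eq_one _).2 fun w hw => ?_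
  have hmem : w ∈ Subgroup.centralizer (K : Set W) := by
    refine Subgroup.mem_centralizer_iff.2 fun k hk => ?_
    have h := congrArg (fun f : MulAut K => (f ⟨k, hk⟩ : W)) hw
    simp only [MulAut.conjNormal_apply, MulAut.one_apply] at h
    exact (mul_inv_eq_iff_eq_mul.1 h).symm
  rwa [hC, Subgroup.mem_bot] at hmem

omit [Finite W] in
include e hC hidx in
/-- The group is the automorphism group of the standard graph. -/
theorem exists_graph_equiv : ∃ ψ : W ≃* HSOut.GraphAut,
    ∀ k : K, ψ (k : W) ∈ evenAut := by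
  obtain ⟨e1⟩ := sporHS_iso_evenAut
  let e' : K ≃* evenAut := e.trans e1
  let cg := MulEquiv.ofBijective HSOut.graphConj
    ⟨HSOut.graphConj_injective, HSOut.graphConj_surjective⟩
  let ψ : W →* HSOut.GraphAut :=
    cg.symm.toMonoidHom.comp ((MulAut.congr e').toMonoidHom.comp MulAut.conjNormal)
  have hinj : Function.Injective ψ := cg.symm.injective.comp
    ((MulAut.congr e').injective.comp (conjNormal_injective K hC))
  have hcard : Nat.card W = Nat.card HSOut.GraphAut := by
    rw [← K.index_mul_card, hidx, Nat.card_congr e'.toEquiv, card_evenAut, card_aut_std]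
  have hbij : Function.Bijective ψ := by
    haveI : Finite HSOut.GraphAut := HSOut.finite_graphAut
    exact (Nat.bijective_iff_injective_and_card _).2 ⟨hinj, hcard⟩
  refine ⟨MulEquiv.ofBijective ψ hbij, fun k => ?_⟩
  have hk : ψ (k : W) = ((e' k : evenAut) : HSOut.GraphAut) := by
    apply HSOut.graphConj_injective
    show cg (cg.symm _) = _
    rw [MulEquiv.apply_symm_apply]
    refine MulEquiv.ext fun g => Subtype.ext ?_
    rw [HSOut.graphConj_apply]
    obtain ⟨x, rfl⟩ := e'.surjective g
    have : (MulAut.congr e') (MulAut.conjNormal (k : W)) (e' x) = e' (k * x * k⁻¹) := by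
      rw [show (MulAut.congr e') (MulAut.conjNormal (k : W)) (e' x) =
        e' (MulAut.conjNormal (k : W) (e'.symm (e' x))) from rfl, e'.symm_apply_apply]
      exact congrArg e' (Subtype.ext (MulAut.conjNormal_apply _ _))
    simp only [MonoidHom.coe_comp, Function.comp_apply, MulEquiv.coe_toMonoidHom]
    rw [this, map_mul, map_mul, map_inv]
    rfl
  show ψ (k : W) ∈ evenAut
  rw [hk]
  exact (e' k).2

include e hC hidx in
/-- Every automorphism of the normal subgroup is a conjugation. -/
theorem aut_is_conj (α : MulAut K) : ∃ w : W, ∀ k : K, (α k : W) = w * k * w⁻¹ := by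
  obtain ⟨ψ, -⟩ := exists_graph_equiv K e hC hidx
  obtain ⟨e1⟩ := sporHS_iso_evenAut
  have hcg := MulEquiv.ofBijective HSOut.graphConj
    ⟨HSOut.graphConj_injective, HSOut.graphConj_surjective⟩
  have hcard : Nat.card W = Nat.card (MulAut K) := by
    rw [Nat.card_congr (MulAut.congr (e.trans e1)).toEquiv, ← Nat.card_congr hcg.toEquiv,
      Nat.card_congr ψ.toEquiv]
  haveI : Finite (MulAut K) := Finite.of_injective (fun f : MulAut K => (f : K → K))
    DFunLike.coe_injective
  obtain ⟨w, hw⟩ := ((Nat.bijective_iff_injective_and_card _).2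
    ⟨conjNormal_injective K hC, hcard⟩).2 α
  refine ⟨w, fun k => ?_⟩
  rw [← hw, MulAut.conjNormal_apply]

omit [Finite W] in
include e hC hidx in
/-- No involution commutes with an element of order eleven of the normal subgroup. -/
theorem no_involution_commutes_eleven {u : W} (hu : u ∈ K) (h11 : orderOf u = 11) {n : W}
    (hn : n * n = 1) (hc : n * u = u * n) : n = 1 := by
  obtain ⟨ψ, hψ⟩ := exists_graph_equiv K e hC hidx
  have := eq_one_of_commutes_eleven_graph (hψ ⟨u, hu⟩) (by rw [MulEquiv.orderOf_eq]; exact h11)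
    (by rw [← map_mul, hn, map_one]) (show ψ n * ψ u = ψ u * ψ n by rw [← map_mul, hc, map_mul])
  exact (map_eq_one_iff _ ψ.injective).1 this

end generic

end CfsgLib.HNAut3
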