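import Cfsg.Agent.HNAut3.NStruct
import Cfsg.Agent.HNOrder51.Facts

/-!
The orbits of `⟨x, y, z⟩` on its cosets: centralisers of elements of order eleven, the point
stabiliser of `t`, and the elements commuting with the centraliser of `t`.
-/

set_option autoImplicit false
set_option linter.style.haveILetI false

namespace CfsgLib.HNAut3

open Cfsg CfsgLib.HN51

/-- the nodes of the nine orbits -/
def aliveNodes : List ℕ := [0, 1, 2, 3, 5, 6, 7, 8, 9]

/-- the orbit lengths -/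
def orbLen : ℕ → ℕ
  | 0 => 1
  | 1 => 1408
  | 2 => 2200
  | 3 => 35200
  | 5 => 123200
  | 6 => 354816
  | 7 => 739200
  | 8 => 277200
  | 9 => 5775
  | _ => 0

/-- every coset lies in one of the nine orbits -/
def Cover : Prop :=
  ∀ g : Cfsg.Spor.HN, ∃ a ∈ aliveNodes, ∃ m ∈ HN51.Nsub, psi g = psi (ev (dw a) * m)

/-- the elements of `⟨x, y, z⟩` fixing the coset of a node -/
def Stab (a : ℕ) : Subgroup HN51.Nsub :=
  (HN51.Nsub.comap (MulAut.conj (ev (dw a))).toMonoidHom).subgroupOf HN51.Nsub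

theorem mem_Stab {a : ℕ} {n : HN51.Nsub} :
    n ∈ Stab a ↔ ev (dw a) * (n : Cfsg.Spor.HN) * (ev (dw a))⁻¹ ∈ HN51.Nsub := Iff.rfl

/-- the nine orbits have their exact lengths -/
def OrbitLen : Prop := ∀ a ∈ aliveNodes, (Stab a).index = orbLen a

/-- the centraliser of `t` in `⟨x, y, z⟩` -/
def CT : Subgroup HN51.Nsub := (Subgroup.centralizer {T}).subgroupOf HN51.Nsub

theorem mem_CT {n : HN51.Nsub} : n ∈ CT ↔ Commute (n : Cfsg.Spor.HN) T := by
  rw [CT, Subgroup.mem_subgroupOf, Subgroup.mem_centralizer_iff]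
  constructor
  · intro h; exact (h T rfl).symm
  · rintro h _ rfl; exact h.symm

theorem ev_dw_zero : ev (dw 0) = 1 := rfl

theorem ev_dw_one : ev (dw 1) = T := by simp [dw, ev, gen]

theorem mem_of_psi_zero {g m : Cfsg.Spor.HN} (hm : m ∈ HN51.Nsub)
    (h : psi g = psi (ev (dw 0) * m)) : g ∈ HN51.Nsub := by
  rw [psi_eq, ev_dw_zero, one_mul] at h
  simpa using mul_mem h hm

variable (hb : HNCover80.TenBound) (hcov : Cover) (horb : OrbitLen) (hC : CFix)

include hb hcov horb in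
/-- The centraliser of an element of order eleven of `⟨x, y, z⟩` lies in it. -/
theorem mem_of_commute_eleven {u g : Cfsg.Spor.HN} (hu : u ∈ HN51.Nsub) (h11 : orderOf u = 11)
    (hc : Commute g u) : g ∈ HN51.Nsub := by
  obtain ⟨a, ha, m, hm, h⟩ := hcov g
  by_cases h0 : a = 0
  · exact mem_of_psi_zero hm (h0 ▸ h)
  exfalso
  rw [psi_eq] at h
  set d := ev (dw a)
  set n := g * (d * m)⁻¹ with hn
  let u' : HN51.Nsub := ⟨m * u * m⁻¹, mul_mem (mul_mem hm hu) (inv_mem hm)⟩
  have hmem : u' ∈ Stab a := by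
    rw [mem_Stab]
    have e : d * (m * u * m⁻¹) * d⁻¹ = n⁻¹ * u * n := by
      have hg : g * u * g⁻¹ = u := by rw [hc.eq, mul_inv_cancel_right]
      calc d * (m * u * m⁻¹) * d⁻¹ = n⁻¹ * (g * u * g⁻¹) * n := by rw [hn]; group
        _ = n⁻¹ * u * n := by rw [hg]
    show d * (m * u * m⁻¹) * d⁻¹ ∈ HN51.Nsub
    rw [e]
    exact mul_mem (mul_mem (inv_mem h) hu) h
  have hord : orderOf (⟨u', hmem⟩ : Stab a) = 11 := by
    rw [← Subgroup.orderOf_coe, ← Subgroup.orderOf_coe]
    show orderOf (m * u * m⁻¹) = 11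
    rw [show m * u * m⁻¹ = MulAut.conj m u from rfl, MulEquiv.orderOf_eq, h11]
  have hdvd : 11 ∣ Nat.card (Stab a) := hord ▸ orderOf_dvd_natCard _
  have hcard := (Stab a).index_mul_card
  rw [horb a ha, card_Nsub hb] at hcard
  have hL : ∀ b ∈ aliveNodes, b ≠ 0 → 11 ∣ orbLen b := by decide
  have : 11 * 11 ∣ 177408000 := hcard ▸ Nat.mul_dvd_mul (hL a ha h0) hdvd
  revert this
  decide

theorem act_checks : ((List.range 1408).all fun i => (List.range 5).all fun a =>
    (act i a).blt 1408 && Nat.beq (act (act i a) (linv a)) i) = true := by decide +kernel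

theorem act_spec {i a : ℕ} (hi : i < 1408) (ha : a < 5) :
    act i a < 1408 ∧ act (act i a) (linv a) = i := by
  have h := List.all_eq_true.1 (List.all_eq_true.1 act_checks i (List.mem_range.2 hi)) a
    (List.mem_range.2 ha)
  simp only [Bool.and_eq_true, Nat.blt_eq, Nat.beq_eq] at h
  exact h

theorem run_append' (i : ℕ) (u w : List ℕ) : run i (u ++ w) = run (run i u) w :=
  List.foldl_append

theorem run_spec : ∀ {w : List ℕ} {i : ℕ}, isN w = true → i < 1408 →
    run i w < 1408 ∧ run (run i w) (winv w) = i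
  | [], i, _, hi => ⟨hi, rfl⟩
  | a :: w, i, hw, hi => by
    simp only [isN, List.all_cons, Bool.and_eq_true, Nat.blt_eq] at hw
    obtain ⟨h1, h2⟩ := act_spec hi hw.1
    obtain ⟨h3, h4⟩ := run_spec (w := w) hw.2 h1
    refine ⟨h3, ?_⟩
    show run (run (act i a) w) (winv (a :: w)) = i
    rw [winv, List.map_cons, List.reverse_cons, run_append', ← winv, h4]
    exact h2

theorem run_div {w w' : List ℕ} (_hw : isN w = true) (hw' : isN w' = true)
    (h : run 0 w = run 0 w') : run 0 (w ++ winv w') = 0 := by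
  rw [run_append', h]
  exact (run_spec hw' (by norm_num)).2

include hC in
theorem commute_of_same_point {w w' : List ℕ} (hw : isN w = true) (hw' : isN w' = true)
    (h : run 0 w = run 0 w') : Commute (ev w * (ev w')⁻¹) T := by
  have := hC _ (isN_append hw (isN_winv hw')) (run_div hw hw' h)
  rwa [ev_append, ev_winv hw'] at this

/-- the coset of a point -/
noncomputable def ptCoset (j : Fin 1408) : HN51.Nsub ⧸ CT :=
  open Classical in
  if h : ∃ w, isN w = true ∧ run 0 w = j.val then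
    ↑(⟨ev h.choose, ev_mem h.choose_spec.1⟩ : HN51.Nsub)⁻¹
  else ↑(1 : HN51.Nsub)

include hC in
theorem ptCoset_run {w : List ℕ} (hw : isN w = true) :
    ptCoset ⟨run 0 w, (run_spec hw (by norm_num)).1⟩ = ↑(⟨ev w, ev_mem hw⟩ : HN51.Nsub)⁻¹ := by
  have h : ∃ v, isN v = true ∧ run 0 v = run 0 w := ⟨w, hw, rfl⟩
  rw [ptCoset, dif_pos h, QuotientGroup.eq, inv_inv, mem_CT]
  exact commute_of_same_point hC h.choose_spec.1 hw h.choose_spec.2

include hC in
theorem ptCoset_surjective : Function.Surjective ptCoset := by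
  intro q
  induction q using QuotientGroup.induction_on with
  | _ n =>
    obtain ⟨w, hw, e⟩ := exists_word (n⁻¹).2
    refine ⟨⟨run 0 w, (run_spec hw (by norm_num)).1⟩, ?_⟩
    rw [ptCoset_run hC hw, show (⟨ev w, ev_mem hw⟩ : HN51.Nsub) = n⁻¹ from Subtype.ext e, inv_inv]

theorem CT_le_Stab : CT ≤ Stab 1 := by
  intro n hn
  rw [mem_CT] at hn
  rw [mem_Stab, ev_dw_one, ← hn.eq, mul_inv_cancel_right]
  exact n.2

include hC in
theorem index_CT_le : CT.index ≤ 1408 := by
  have := Nat.card_le_card_of_surjective ptCoset (ptCoset_surjective hC)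
  rwa [Nat.card_eq_fintype_card (α := Fin 1408), Fintype.card_fin] at this

include hb horb hC in
theorem index_CT : CT.index = 1408 ∧ Stab 1 ≤ CT := by
  haveI := finite_Nsub hb
  have h := Subgroup.relIndex_mul_index CT_le_Stab
  rw [horb 1 (by decide)] at h
  have hle := index_CT_le hC
  have h0 : CT.index ≠ 0 := Subgroup.index_ne_zero_of_finite
  rw [orbLen] at h
  have hr : CT.relIndex (Stab 1) = 1 := by
    generalize CT.relIndex (Stab 1) = r at h ⊢
    omega
  exact ⟨by rw [← h, hr, one_mul], Subgroup.relIndex_eq_one.1 hr⟩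

include hb horb hC in
theorem point_eq {w w' : List ℕ} (hw : isN w = true) (hw' : isN w' = true)
    (h : Commute (ev w * (ev w')⁻¹) T) : run 0 w = run 0 w' := by
  have hbij : Function.Bijective ptCoset := by
    haveI := finite_Nsub hb
    exact (Nat.bijective_iff_surjective_and_card _).2 ⟨ptCoset_surjective hC, by
      rw [Nat.card_eq_fintype_card (α := Fin 1408), Fintype.card_fin]
      exact (index_CT hb horb hC).1.symm⟩
  refine congrArg Fin.val (hbij.1 (a₁ := ⟨run 0 w, (run_spec hw (by norm_num)).1⟩)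
    (a₂ := ⟨run 0 w', (run_spec hw' (by norm_num)).1⟩) ?_)
  rw [ptCoset_run hC hw, ptCoset_run hC hw', QuotientGroup.eq, inv_inv, mem_CT]
  exact h

theorem fix_checks : ((List.range 1408).all fun i =>
    !(Nat.beq (act i 2) i && Nat.beq (run i [1, 2, 0]) i) ||
      ((List.range 4).any fun j => Nat.beq i (run 0 (List.replicate j 0)))) = true := by
  decide +kernel

theorem conj_T_pow (i : ℕ) : (X ^ i)⁻¹ * T * X ^ i = T ^ 3 ^ i := by
  induction i with
  | zero => simp
  | succ i ih =>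
    have h3 : X⁻¹ * T * X = T ^ 3 := by
      rw [x_conj]
      exact inv_eq_of_mul_eq_one_right (by rw [← pow_add, T_pow_five])
    calc (X ^ (i + 1))⁻¹ * T * X ^ (i + 1) = X⁻¹ * ((X ^ i)⁻¹ * T * X ^ i) * X := by
          rw [pow_succ]; group
      _ = (X⁻¹ * T * X⁻¹⁻¹) ^ 3 ^ i := by rw [ih, conj_pow, inv_inv]
      _ = T ^ 3 ^ (i + 1) := by rw [inv_inv, h3, ← pow_mul, pow_succ']

theorem T_pow_mod (k : ℕ) : T ^ k = T ^ (k % 5) := pow_eq_pow_mod k T_pow_five

theorem ev_replicate (i : ℕ) : ev (List.replicate i 0) = X ^ i := by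
  simp [ev, gen]

theorem isN_replicate (i : ℕ) : isN (List.replicate i 0) = true :=
  List.all_eq_true.2 fun a ha => by rw [List.eq_of_mem_replicate ha]; rfl

include hb horb hC in
/-- An element of `⟨x, y, z⟩` conjugated into it by a power of `t` commutes with `t`. -/
theorem commute_of_conj_pow {n : Cfsg.Spor.HN} (hn : n ∈ HN51.Nsub) {k : ℕ} (hk : k % 5 ≠ 0)
    (h : T ^ k * n * (T ^ k)⁻¹ ∈ HN51.Nsub) : Commute n T := by
  obtain ⟨i, hi⟩ : ∃ i, 3 ^ i % 5 = k % 5 := by
    have : ∀ r < 5, r ≠ 0 → ∃ i < 4, 3 ^ i % 5 = r := by decide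
    obtain ⟨i, -, e⟩ := this (k % 5) (Nat.mod_lt _ (by norm_num)) hk
    exact ⟨i, e⟩
  have hT : T ^ k = (X ^ i)⁻¹ * T * X ^ i := by
    rw [conj_T_pow, T_pow_mod k, T_pow_mod (3 ^ i), hi]
  let n' : HN51.Nsub := ⟨X ^ i * n * (X ^ i)⁻¹,
    mul_mem (mul_mem (pow_mem X_mem i) hn) (inv_mem (pow_mem X_mem i))⟩
  have hn' : n' ∈ Stab 1 := by
    rw [mem_Stab, ev_dw_one]
    show T * (X ^ i * n * (X ^ i)⁻¹) * T⁻¹ ∈ HN51.Nsub
    rw [show T * (X ^ i * n * (X ^ i)⁻¹) * T⁻¹ = X ^ i * (T ^ k * n * (T ^ k)⁻¹) * (X ^ i)⁻¹ by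
      rw [hT]; group]
    exact mul_mem (mul_mem (pow_mem X_mem i) h) (inv_mem (pow_mem X_mem i))
  have hc : Commute (X ^ i * n * (X ^ i)⁻¹) T := mem_CT.1 ((index_CT hb horb hC).2 hn')
  have hk' : Commute n (T ^ k) := by
    rw [hT]
    calc n * ((X ^ i)⁻¹ * T * X ^ i) = (X ^ i)⁻¹ * ((X ^ i * n * (X ^ i)⁻¹) * T) * X ^ i := by group
      _ = (X ^ i)⁻¹ * (T * (X ^ i * n * (X ^ i)⁻¹)) * X ^ i := by rw [hc.eq]
      _ = (X ^ i)⁻¹ * T * X ^ i * n := by group
  obtain ⟨l, hl⟩ : ∃ l, k * l % 5 = 1 := by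
    have : ∀ r < 5, r ≠ 0 → ∃ l < 5, r * l % 5 = 1 := by decide
    obtain ⟨l, -, e⟩ := this (k % 5) (Nat.mod_lt _ (by norm_num)) hk
    exact ⟨l, by rwa [Nat.mul_mod, Nat.mod_mod, ← Nat.mul_mod] at e⟩
  have := hk'.pow_right l
  rwa [← pow_mul, T_pow_mod, hl, pow_one] at this

include hb hcov horb hC in
/-- An element commuting with the centraliser of `t` lies in the coset of a power of `t`. -/
theorem coset_of_commute {g : Cfsg.Spor.HN}
    (hg : ∀ n ∈ HN51.Nsub, Commute n T → Commute g n) :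
    g ∈ HN51.Nsub ∨ ∃ k, k % 5 ≠ 0 ∧ g * (T ^ k)⁻¹ ∈ HN51.Nsub := by
  obtain ⟨a, ha, m, hm, h⟩ := hcov g
  rw [psi_eq] at h
  set d := ev (dw a) with hd
  set n := g * (d * m)⁻¹ with hn
  have key : ∀ c ∈ HN51.Nsub, Commute c T → d * (m * c * m⁻¹) * d⁻¹ ∈ HN51.Nsub := by
    intro c hcN hcT
    have hgc : g * c * g⁻¹ = c := by rw [(hg c hcN hcT).eq, mul_inv_cancel_right]
    have e : d * (m * c * m⁻¹) * d⁻¹ = n⁻¹ * c * n := by
      calc d * (m * c * m⁻¹) * d⁻¹ = n⁻¹ * (g * c * g⁻¹) * n := by rw [hn]; group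
        _ = n⁻¹ * c * n := by rw [hgc]
    rw [e]
    exact mul_mem (mul_mem (inv_mem h) hcN) h
  have hle : CT ≤ (Stab a).comap (MulAut.conj (⟨m, hm⟩ : HN51.Nsub)).toMonoidHom := fun c hc =>
    key c.1 c.2 (mem_CT.1 hc)
  haveI := finite_Nsub hb
  have hidx : orbLen a ≤ 1408 := by
    have := Subgroup.index_antitone hle
    rw [Subgroup.index_comap_of_surjective _ (MulAut.conj _).surjective, horb a ha] at this
    exact this.trans (index_CT_le hC)
  have h01 : ∀ b ∈ aliveNodes, orbLen b ≤ 1408 → b = 0 ∨ b = 1 := by decide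
  rcases h01 a ha hidx with rfl | rfl
  · refine Or.inl ?_
    rw [hd, ev_dw_zero, one_mul] at hn
    simpa [hn] using mul_mem h hm
  · refine Or.inr ?_
    rw [hd, ev_dw_one] at hn key
    obtain ⟨w, hw, rfl⟩ := exists_word hm
    have hfix : ∀ u, isN u = true → Commute (ev u) T → run (run 0 w) u = run 0 w := by
      intro u hu huT
      rw [← run_append']
      refine point_eq hb horb hC (isN_append hw hu) hw ?_
      rw [ev_append]
      exact mem_CT.1 ((index_CT hb horb hC).2 (show (⟨ev w * ev u * (ev w)⁻¹,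
        mul_mem (mul_mem hm (ev_mem hu)) (inv_mem hm)⟩ : HN51.Nsub) ∈ Stab 1 by
          rw [mem_Stab, ev_dw_one]; exact key _ (ev_mem hu) huT))
    have hY : Commute (ev [2]) T := by simpa [ev, gen] using commute_T_Y.symm
    have hY' : Commute (ev [1, 2, 0]) T := by
      have h1 : Commute Y (T ^ 3) := (commute_T_Y.symm).pow_right 3
      have h2 : Commute (X⁻¹ * Y * X) (X⁻¹ * T ^ 3 * X) := by
        calc X⁻¹ * Y * X * (X⁻¹ * T ^ 3 * X) = X⁻¹ * (Y * T ^ 3) * X := by group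
          _ = X⁻¹ * (T ^ 3 * Y) * X := by rw [h1.eq]
          _ = X⁻¹ * T ^ 3 * X * (X⁻¹ * Y * X) := by group
      have h3 := (conj_T_pow 1)
      rw [pow_one, pow_one] at h3
      have h4 : X⁻¹ * T ^ 3 * X = T ^ 4 := by
        have e := conj_pow (i := 3) (a := X⁻¹) (b := T)
        rw [inv_inv, h3, ← pow_mul] at e
        rw [← e, T_pow_mod (3 * 3)]
      rw [h4] at h2
      have h5 := h2.pow_right 4
      rw [← pow_mul, T_pow_mod, show 4 * 4 % 5 = 1 from rfl, pow_one] at h5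
      simpa [ev, gen, mul_assoc] using h5
    have hpt := List.all_eq_true.1 fix_checks (run 0 w)
      (List.mem_range.2 (run_spec hw (by norm_num)).1)
    have e1 : act (run 0 w) 2 = run 0 w := hfix [2] rfl hY
    have e2 : run (run 0 w) [1, 2, 0] = run 0 w := hfix [1, 2, 0] rfl hY'
    simp only [e1, e2, Nat.beq_refl, Bool.and_self, Bool.not_true, Bool.false_or, List.any_eq_true,
      List.mem_range, Nat.beq_eq] at hpt
    obtain ⟨i, -, hi⟩ := hpt
    have hc := commute_of_same_point hC hw (isN_replicate i) hi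
    rw [ev_replicate] at hc
    refine ⟨3 ^ i, ?_, ?_⟩
    · intro h0
      have := (by norm_num : Nat.Prime 5).dvd_of_dvd_pow (Nat.dvd_of_mod_eq_zero h0)
      norm_num at this
    · rw [← conj_T_pow]
      have hgw : g = n * (T * ev w) := by rw [hn]; group
      have e : g * ((X ^ i)⁻¹ * T * X ^ i)⁻¹ = n * (T * (ev w * (X ^ i)⁻¹) * T⁻¹) * X ^ i := by
        rw [hgw]; group
      rw [e, ← hc.eq, mul_inv_cancel_right]
      exact mul_mem (mul_mem h (mul_mem hm (inv_mem (pow_mem X_mem i)))) (pow_mem X_mem i)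

end CfsgLib.HNAut3
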