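import Cfsg.Agent.HN133.Rep
import Cfsg.Agent.HNOrder51.Facts
import Cfsg.Agent.HNAut3.BetaChecks

/-!
Values of words in the 133-dimensional representation, and the inequalities used for the
automorphism group.
-/

set_option autoImplicit false
set_option maxRecDepth 100000

namespace CfsgLib.HNAut3

open CfsgLib.HN133 CfsgLib.HN51

/-- words without the inverse of `t` -/
def isRep (w : List ℕ) : Bool := w.all fun a => a.blt 6

theorem rep_gen' (g : Cfsg.Spor.HN.Gen) (b : Bool) :
    (rep (if b then PresentedGroup.of g else (PresentedGroup.of g)⁻¹ : Cfsg.Spor.HN)).1 =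
      HN133.img (g, b) := by
  have h : rep (PresentedGroup.of g : Cfsg.Spor.HN) = HN133.gen g :=
    PresentedGroup.toGroup.of relators_one
  cases b
  · rw [if_neg Bool.false_ne_true, map_inv, h]; rfl
  · rw [if_pos rfl, h]; rfl

theorem rep_letter : ∀ a < 6, (rep (HN51.gen a)).1 = M a := by
  intro a ha
  interval_cases a
  · exact (rep_gen' .x true).trans (List.prod_singleton)
  · exact (rep_gen' .x false).trans (List.prod_singleton)
  · exact (rep_gen' .y true).trans (List.prod_singleton)
  · exact (rep_gen' .y false).trans (List.prod_singleton)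
  · exact (rep_gen' .z true).trans (List.prod_singleton)
  · exact (rep_gen' .t true).trans (List.prod_singleton)

theorem rep_ev : ∀ {w : List ℕ}, isRep w = true → (rep (ev w)).1 = (w.map M).prod
  | [], _ => by rw [ev_nil, map_one]; rfl
  | a :: w, hw => by
    simp only [isRep, List.all_cons, Bool.and_eq_true, Nat.blt_eq] at hw
    rw [ev_cons, map_mul, Units.val_mul, rep_letter a hw.1, rep_ev hw.2, List.map_cons,
      List.prod_cons]

theorem ev_ne {w w' : List ℕ} (hw : isRep w = true) (hw' : isRep w' = true)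
    (h : sameS (runM matL w) (runM matL w') = false) : ev w ≠ ev w' := fun e =>
  prod_ne h (by rw [← rep_ev hw, ← rep_ev hw', e])

theorem node_checks : ([1, 2, 3, 5, 6, 7, 8, 9].all fun a =>
    isRep (dw a) && !sameS (runM matL ([0, 0] ++ dw a)) (runM matL (dw a ++ [0, 0]))) = true := by
  decide +kernel

theorem cube_checks : ([[4, 5, 5, 4, 5, 5, 4, 5, 5], [4, 5, 5, 5, 4, 5, 5, 5, 4, 5, 5, 5]].all
    fun w => isRep w && !sameS (runM matL w) (runM matL [])) = true := by decide +kernel

theorem sq_node_ne {a : ℕ} (ha : a ∈ [1, 2, 3, 5, 6, 7, 8, 9]) :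
    ¬ Commute (X ^ 2) (ev (dw a)) := by
  have h := List.all_eq_true.1 node_checks a ha
  simp only [Bool.and_eq_true, Bool.not_eq_true'] at h
  intro hc
  refine ev_ne (w := [0, 0] ++ dw a) (w' := dw a ++ [0, 0]) ?_ ?_ h.2 ?_
  · rw [isRep, List.all_append, ← isRep, ← isRep, h.1]; rfl
  · rw [isRep, List.all_append, ← isRep, ← isRep, h.1]; rfl
  · have e : ev [0, 0] = X ^ 2 := by simp [ev, HN51.gen, pow_two]
    rw [ev_append, ev_append, e]
    exact hc.eq

theorem cube_ne : (Z * T ^ 2) ^ 3 ≠ 1 ∧ (Z * T ^ 3) ^ 3 ≠ 1 := by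
  have h := cube_checks
  simp only [List.all_cons, List.all_nil, Bool.and_true, Bool.and_eq_true, Bool.not_eq_true'] at h
  constructor
  · intro e
    refine ev_ne h.1.1 (by rfl) h.1.2 ?_
    simpa [ev, HN51.gen, pow_succ, mul_assoc] using e
  · intro e
    refine ev_ne h.2.1 (by rfl) h.2.2 ?_
    simpa [ev, HN51.gen, pow_succ, mul_assoc] using e

end CfsgLib.HNAut3
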