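import Cfsg.Agent.HNAut3.Beta
import Cfsg.Agent.HNAut3.Orbit
import Cfsg.Agent.HNAut3.RepWords
import Cfsg.Agent.Mathieu.Normalizer

/-!
The outer automorphism group of the presented Harada–Norton group has order two.
-/

set_option autoImplicit false
set_option linter.style.haveILetI false

namespace CfsgLib.HNAut3

open Cfsg CfsgLib.HN51
open scoped commutatorElement

local notation "GHN" => Cfsg.Spor.HN

variable (hb : HNCover80.TenBound) (hcov : Cover) (horb : OrbitLen) (hC : HN51.CFix)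

theorem hom_ext_gens {H : Type*} [Group H] {f f' : GHN →* H} (hx : f X = f' X) (hy : f Y = f' Y)
    (hz : f Z = f' Z) (ht : f T = f' T) : f = f' :=
  PresentedGroup.ext fun g => by cases g <;> assumption

theorem aut_ext_gens {φ φ' : MulAut GHN} (hx : φ X = φ' X) (hy : φ Y = φ' Y) (hz : φ Z = φ' Z)
    (ht : φ T = φ' T) : φ = φ' :=
  MulEquiv.ext fun g => DFunLike.congr_fun
    (hom_ext_gens (f := φ.toMonoidHom) (f' := φ'.toMonoidHom) hx hy hz ht) g

include hb hcov in
/-- The centraliser of the square of `x` is `⟨x, y, z⟩`. -/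
theorem mem_of_commute_sq {g : GHN} (hg : Commute (X ^ 2) g) : g ∈ HN51.Nsub := by
  obtain ⟨a, ha, m, hm, h⟩ := hcov g
  by_cases h0 : a = 0
  · exact mem_of_psi_zero hm (h0 ▸ h)
  exfalso
  rw [psi_eq] at h
  refine sq_node_ne (a := a) ?_ ?_
  · exact (by decide : ∀ b ∈ aliveNodes, b ≠ 0 → b ∈ [1, 2, 3, 5, 6, 7, 8, 9]) a ha h0
  · have e : ev (dw a) = (g * (ev (dw a) * m)⁻¹)⁻¹ * g * m⁻¹ := by group
    rw [e]
    exact (((sq_comm hb h).inv_right).mul_right hg).mul_right (sq_comm hb hm).inv_right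

theorem T_mem_iff : T ∈ HN51.Nsub → ∀ g : GHN, g ∈ HN51.Nsub := by
  intro h g
  have hle : Subgroup.closure (Set.range (PresentedGroup.of : _ → GHN)) ≤ HN51.Nsub := by
    rw [Subgroup.closure_le]
    rintro _ ⟨a, rfl⟩
    cases a
    exacts [X_mem, Y_mem, Z_mem, h]
  exact hle (PresentedGroup.closure_range_of _ ▸ Subgroup.mem_top g)

include hb in
theorem T_notMem : T ∉ HN51.Nsub := fun h =>
  sq_node_ne (a := 1) (by decide) (by rw [ev_dw_one]; exact sq_comm hb h)

/-- the element `x²` -/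
def sqN : HN51.Nsub := ⟨X ^ 2, pow_mem X_mem 2⟩

include hb in
/-- The only involution commuting with an element of order eleven is the square of `x`. -/
theorem eq_sq_of_commute {u i : GHN} (hu : u ∈ HN51.Nsub) (h11 : orderOf u = 11) (hcov : Cover)
    (horb : OrbitLen) (hi : i * i = 1) (hc : Commute i u) : i = 1 ∨ i = X ^ 2 := by
  have hiN : i ∈ HN51.Nsub := mem_of_commute_eleven hb hcov horb hu h11 hc
  obtain ⟨e⟩ := exists_KW_equiv
  let a : W := perm hb ⟨u, hu⟩
  have ha11 : a ^ 11 = 1 := by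
    rw [← map_pow, ← map_one (perm hb)]
    exact congrArg _ (Subtype.ext (by simpa using (h11 ▸ pow_orderOf_eq_one u : u ^ 11 = 1)))
  have haK : a ∈ KW := by
    have h := Subgroup.sq_mem_of_index_two index_KW (a ^ 6)
    rwa [← pow_mul, show 6 * 2 = 11 + 1 from rfl, pow_add, ha11, one_mul, pow_one] at h
  have hord : orderOf a = 11 := by
    haveI : Fact (Nat.Prime 11) := ⟨by norm_num⟩
    refine orderOf_eq_prime ha11 fun h1 => ?_
    rcases perm_eq_one hb h1 with h | h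
    · have h' : u = 1 := h
      rw [h', orderOf_one] at h11; norm_num at h11
    · have h' : u = X ^ 2 := h
      have hd : orderOf u ∣ 2 := orderOf_dvd_of_pow_eq_one (by rw [h', pow_two (X ^ 2), sq_sq hb])
      rw [h11] at hd
      norm_num at hd
  have h1 := no_involution_commutes_eleven KW e centralizer_KW index_KW haK hord
    (n := perm hb ⟨i, hiN⟩)
    (by rw [← map_mul, ← map_one (perm hb)]; exact congrArg _ (Subtype.ext hi))
    (by
      show perm hb ⟨i, hiN⟩ * perm hb ⟨u, hu⟩ = perm hb ⟨u, hu⟩ * perm hb ⟨i, hiN⟩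
      rw [← map_mul, ← map_mul]; exact congrArg _ (Subtype.ext hc.eq))
  exact perm_eq_one hb h1

include hb hcov horb in
theorem exists_eleven : ∃ u ∈ HN51.Nsub, orderOf u = 11 ∧
    ∀ v : GHN, orderOf v = 11 → ∃ g : GHN, g * v * g⁻¹ ∈ HN51.Nsub := by
  haveI := finite_Nsub hb
  haveI : Fact (Nat.Prime 11) := ⟨by norm_num⟩
  haveI : Finite GHN := by
    refine Finite.of_surjective
      (fun p : Fin 10 × HN51.Nsub × HN51.Nsub => (p.2.1 : GHN) * (ev (dw p.1.val) * p.2.2)) ?_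
    intro g
    obtain ⟨a, ha, m, hm, h⟩ := hcov g
    rw [psi_eq] at h
    have ha' : a < 10 := (by decide : ∀ b ∈ aliveNodes, b < 10) a ha
    exact ⟨(⟨a, ha'⟩, ⟨_, h⟩, ⟨m, hm⟩), inv_mul_cancel_right g (ev (dw a) * m)⟩
  obtain ⟨u, hu⟩ := exists_prime_orderOf_dvd_card' (G := HN51.Nsub) 11
    (by rw [card_Nsub hb]; norm_num)
  have hu' : orderOf (u : GHN) = 11 := by rw [Subgroup.orderOf_coe, hu]
  refine ⟨u, u.2, hu', fun v hv => ?_⟩
  have hZu : IsPGroup 11 (Subgroup.zpowers (u : GHN)) :=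
    IsPGroup.of_card (n := 1) (by rw [Nat.card_zpowers, hu', pow_one])
  obtain ⟨P, hP⟩ := hZu.exists_le_sylow
  have hPN : (P : Subgroup GHN) ≤ HN51.Nsub := by
    haveI : Nontrivial P := by
      refine ⟨⟨⟨u, hP (Subgroup.mem_zpowers _)⟩, 1, fun e => ?_⟩⟩
      have e' : (u : GHN) = 1 := congrArg Subtype.val e
      rw [e', orderOf_one] at hu'; norm_num at hu'
    haveI := P.2.center_nontrivial
    obtain ⟨z, hz⟩ := exists_prime_orderOf_dvd_card' (G := Subgroup.center P) 11 (by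
      obtain ⟨k, hk⟩ := IsPGroup.iff_card.1 (P.2.to_subgroup (Subgroup.center P))
      have h1 : 1 < Nat.card (Subgroup.center P) := Finite.one_lt_card
      rw [hk] at h1 ⊢
      rcases k with _ | k
      · simp at h1
      · exact dvd_pow_self 11 (Nat.succ_ne_zero k))
    set z' : GHN := ((z : P) : GHN) with hz'
    have hz11 : orderOf z' = 11 := by rw [hz', Subgroup.orderOf_coe, Subgroup.orderOf_coe, hz]
    have hzc : ∀ p ∈ (P : Subgroup GHN), Commute p z' := fun p hp =>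
      congrArg Subtype.val (Subgroup.mem_center_iff.1 z.2 ⟨p, hp⟩)
    have hzN : z' ∈ HN51.Nsub :=
      mem_of_commute_eleven hb hcov horb u.2 hu' (hzc u (hP (Subgroup.mem_zpowers _))).symm
    exact fun p hp => mem_of_commute_eleven hb hcov horb hzN hz11 (hzc p hp)
  have hZv : IsPGroup 11 (Subgroup.zpowers v) :=
    IsPGroup.of_card (n := 1) (by rw [Nat.card_zpowers, hv, pow_one])
  obtain ⟨Q, hQ⟩ := hZv.exists_le_sylow
  obtain ⟨g, hg⟩ := MulAction.exists_smul_eq GHN Q P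
  refine ⟨g, hPN ?_⟩
  rw [← hg, Sylow.coe_subgroup_smul]
  exact ⟨v, hQ (Subgroup.mem_zpowers v), rfl⟩

include hb hcov horb in
/-- Every automorphism maps the square of `x` to a conjugate. -/
theorem exists_conj_sq (φ : MulAut GHN) : ∃ g : GHN, g * φ (X ^ 2) * g⁻¹ = X ^ 2 := by
  obtain ⟨u, hu, h11, hconj⟩ := exists_eleven hb hcov horb
  obtain ⟨g, hg⟩ := hconj (φ u) (by rw [MulEquiv.orderOf_eq, h11])
  refine ⟨g, (eq_sq_of_commute hb hg ?_ hcov horb ?_ ?_).resolve_left fun h => ?_⟩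
  · rw [show g * φ u * g⁻¹ = MulAut.conj g (φ u) from rfl, MulEquiv.orderOf_eq,
      MulEquiv.orderOf_eq, h11]
  · rw [show g * φ (X ^ 2) * g⁻¹ * (g * φ (X ^ 2) * g⁻¹) = g * φ (X ^ 2 * X ^ 2) * g⁻¹ by
      rw [map_mul]; group, sq_sq hb, map_one, mul_one, mul_inv_cancel]
  · exact ((sq_comm hb hu).map φ).map (MulAut.conj g)
  · rw [mul_inv_eq_one, mul_eq_left, ← map_one φ] at h
    exact X_sq_ne (φ.injective h)

include hb hcov in
theorem map_mem {φ : MulAut GHN} (hφ : φ (X ^ 2) = X ^ 2) {n : GHN} (hn : n ∈ HN51.Nsub) :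
    φ n ∈ HN51.Nsub := by
  refine mem_of_commute_sq hb hcov ?_
  rw [← hφ]
  exact (sq_comm hb hn).map φ

include hb hcov in
/-- After a conjugation, an automorphism fixing the square of `x` fixes `⟨x, y, z⟩` up to it. -/
theorem exists_conj_near {φ : MulAut GHN} (hφ : φ (X ^ 2) = X ^ 2) :
    ∃ m ∈ HN51.Nsub, ∀ n ∈ HN51.Nsub,
      m⁻¹ * φ n * m = n ∨ m⁻¹ * φ n * m = n * X ^ 2 := by
  let φN : HN51.Nsub →* HN51.Nsub :=
    (φ.toMonoidHom.comp HN51.Nsub.subtype).codRestrict HN51.Nsub fun n => map_mem hb hcov hφ n.2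
  have hker : (perm hb).ker ≤ ((perm hb).comp φN).ker := by
    intro n hn
    rw [MonoidHom.mem_ker, MonoidHom.comp_apply]
    rcases perm_eq_one hb (MonoidHom.mem_ker.1 hn) with h | h
    · rw [show n = 1 from Subtype.ext h, map_one, map_one]
    · rw [show φN n = ⟨X ^ 2, pow_mem X_mem 2⟩ from Subtype.ext (by
        show φ (n : GHN) = X ^ 2
        rw [h, hφ])]
      exact perm_sq hb
  let α : W →* W := MonoidHom.liftOfSurjective (perm hb) (perm_surjective hb)
    ⟨(perm hb).comp φN, hker⟩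
  have hα : ∀ n, α (perm hb n) = perm hb (φN n) := fun n => by
    have := MonoidHom.liftOfRightInverse_comp_apply (perm hb) _
      (Function.rightInverse_surjInv (perm_surjective hb)) ⟨(perm hb).comp φN, hker⟩ n
    exact this
  have hαinj : Function.Injective α := by
    refine (injective_iff_map_eq_one α).2 fun v hv => ?_
    obtain ⟨n, rfl⟩ := perm_surjective hb v
    rw [hα] at hv
    rcases perm_eq_one hb hv with h | h
    · have h' : φ (n : GHN) = φ 1 := by rw [map_one]; exact h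
      rw [show n = 1 from Subtype.ext (φ.injective h'), map_one]
    · have h' : φ (n : GHN) = φ (X ^ 2) := by rw [hφ]; exact h
      rw [show n = ⟨X ^ 2, pow_mem X_mem 2⟩ from Subtype.ext (φ.injective h'), perm_sq]
  let αe : W ≃* W := MulEquiv.ofBijective α (Finite.injective_iff_bijective.1 hαinj)
  have hK : KW.map αe.toMonoidHom = KW := by
    rw [show KW = commutator W from le_antisymm KW_eq_commutator commutator_le_KW, commutator_def,
      Subgroup.map_commutator]
    erw [Subgroup.map_top_of_surjective αe.toMonoidHom αe.surjective]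
  let αK : MulAut KW := (αe.subgroupMap KW).trans (MulEquiv.subgroupCongr hK)
  obtain ⟨e⟩ := exists_KW_equiv
  obtain ⟨w, hw⟩ := aut_is_conj KW e centralizer_KW index_KW αK
  have hw' : ∀ k ∈ KW, α k = w * k * w⁻¹ := fun k hk => hw ⟨k, hk⟩
  have hall : ∀ v : W, w⁻¹ * α v * w = v := by
    intro v
    have hmem : v⁻¹ * (w⁻¹ * α v * w) ∈ Subgroup.centralizer (KW : Set W) := by
      refine Subgroup.mem_centralizer_iff.2 fun k hk => ?_
      have h1 := hw' _ (KW_normal.conj_mem k hk v)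
      rw [map_mul, map_mul, map_inv, hw' k hk] at h1
      calc k * (v⁻¹ * (w⁻¹ * α v * w))
          = v⁻¹ * w⁻¹ * (w * (v * k * v⁻¹) * w⁻¹) * α v * w := by group
        _ = v⁻¹ * (w⁻¹ * α v * w) * k := by rw [← h1]; group
    rw [centralizer_KW, Subgroup.mem_bot, inv_mul_eq_one] at hmem
    exact hmem.symm
  obtain ⟨m, rfl⟩ := perm_surjective hb w
  refine ⟨m, m.2, fun n hn => ?_⟩
  have h := hall (perm hb ⟨n, hn⟩)
  rw [hα, ← map_inv, ← map_mul, ← map_mul, eq_comm, ← inv_mul_eq_one, ← map_inv, ← map_mul] at h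
  rcases perm_eq_one hb h with e1 | e1
  · left
    have e1' : n⁻¹ * (((m : GHN))⁻¹ * φ n * m) = 1 := e1
    exact (inv_mul_eq_one.1 e1').symm
  · right
    have e1' : n⁻¹ * (((m : GHN))⁻¹ * φ n * m) = X ^ 2 := e1
    rw [← e1', mul_inv_cancel_left]

include hb in
/-- Such an automorphism fixes `x` and `y`. -/
theorem fix_X_Y {φ : MulAut GHN} (hφ : φ (X ^ 2) = X ^ 2)
    (hnear : ∀ n ∈ HN51.Nsub, φ n = n ∨ φ n = n * X ^ 2) : φ X = X ∧ φ Y = Y := by
  let F : Subgroup HN51.Nsub :=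
    (φ.toMonoidHom.comp HN51.Nsub.subtype).eqLocus HN51.Nsub.subtype
  have hF : commutator HN51.Nsub ≤ F := by
    rw [commutator_def, Subgroup.commutator_le]
    intro a _ b _
    show φ ((⁅a, b⁆ : HN51.Nsub) : GHN) = ((⁅a, b⁆ : HN51.Nsub) : GHN)
    have hcoe : ((⁅a, b⁆ : HN51.Nsub) : GHN) = (a : GHN) * b * (a : GHN)⁻¹ * (b : GHN)⁻¹ := by
      simp [commutatorElement_def]
    rw [hcoe, map_mul, map_mul, map_mul, map_inv, map_inv]
    have ha := sq_comm hb a.2
    have hb' := sq_comm hb b.2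
    rcases hnear a a.2 with h | h <;> rcases hnear b b.2 with h' | h' <;> rw [h, h']
    · calc (a : GHN) * (b * X ^ 2) * (a : GHN)⁻¹ * (b * X ^ 2)⁻¹
          = a * b * (X ^ 2 * (a : GHN)⁻¹) * (X ^ 2)⁻¹ * (b : GHN)⁻¹ := by group
        _ = a * b * (a : GHN)⁻¹ * (b : GHN)⁻¹ := by rw [ha.inv_right.eq]; group
    · calc (a : GHN) * X ^ 2 * b * (a * X ^ 2)⁻¹ * (b : GHN)⁻¹
          = a * (X ^ 2 * b) * (X ^ 2)⁻¹ * (a : GHN)⁻¹ * (b : GHN)⁻¹ := by group
        _ = a * b * (a : GHN)⁻¹ * (b : GHN)⁻¹ := by rw [hb'.eq]; group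
    · calc (a : GHN) * X ^ 2 * (b * X ^ 2) * (a * X ^ 2)⁻¹ * (b * X ^ 2)⁻¹
          = a * (X ^ 2 * b) * ((a : GHN)⁻¹ * (X ^ 2)⁻¹) * (b : GHN)⁻¹ := by group
        _ = a * (b * X ^ 2) * ((X ^ 2)⁻¹ * (a : GHN)⁻¹) * (b : GHN)⁻¹ := by
            rw [hb'.eq, ha.inv_inv.eq]
        _ = a * b * (a : GHN)⁻¹ * (b : GHN)⁻¹ := by group
  have key : ∀ n : HN51.Nsub, perm hb n ∈ KW → φ (n : GHN) = n := by
    intro n hn
    have hmap : perm hb n ∈ (commutator HN51.Nsub).map (perm hb) := by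
      rw [commutator_def, Subgroup.map_commutator,
        Subgroup.map_top_of_surjective _ (perm_surjective hb), ← commutator_def]
      exact KW_eq_commutator _ hn
    obtain ⟨c, hc, hcn⟩ := hmap
    have hfix : φ (c : GHN) = c := hF hc
    have h : perm hb (c⁻¹ * n) = 1 := by rw [map_mul, map_inv, hcn, inv_mul_cancel]
    rcases perm_eq_one hb h with e | e
    · have e' : (c : GHN)⁻¹ * n = 1 := e
      rw [← inv_mul_eq_one.1 e', hfix]
    · have e' : (c : GHN)⁻¹ * n = X ^ 2 := e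
      rw [show (n : GHN) = c * X ^ 2 by rw [← e', mul_inv_cancel_left], map_mul, hfix, hφ]
  exact ⟨key ⟨X, X_mem⟩ (perm_X hb), key ⟨Y, Y_mem⟩ (perm_Y hb)⟩

include hb hcov horb hC in
/-- An automorphism fixing `x`, `y`, `z` is inner. -/
theorem inn_of_fix {φ : MulAut GHN} (hx : φ X = X) (hy : φ Y = Y) (hz : φ Z = Z) :
    φ ∈ Cfsg.Inn GHN := by
  have hN : ∀ n ∈ HN51.Nsub, φ n = n := by
    intro n hn
    rw [Nsub_eq] at hn
    exact MonoidHom.eqOn_closure (f := φ.toMonoidHom) (g := MonoidHom.id GHN)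
      (by rintro _ (rfl | rfl | rfl) <;> assumption) hn
  have ht5 : φ T ^ 5 = 1 := by rw [← map_pow, T_pow_five, map_one]
  have hnotN : φ T ∉ HN51.Nsub := fun h => T_notMem hb
    (by have := hN _ h; rwa [φ.injective this] at h)
  have hcomm : ∀ n ∈ HN51.Nsub, Commute n T → Commute (φ T) n := fun n hn hc => by
    have := hc.symm.map φ
    rwa [hN n hn] at this
  obtain ⟨k, hk, hkN⟩ := (coset_of_commute hb hcov horb hC hcomm).resolve_left hnotN
  set n := φ T * (T ^ k)⁻¹ with hn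
  have hinv : ∀ j : ℕ, X ^ 2 * T ^ j * (X ^ 2)⁻¹ = (T ^ j)⁻¹ := by
    intro j
    have h1 : X ^ 2 * T * (X ^ 2)⁻¹ = T⁻¹ := by
      have := HN51.X_sq_conj_T
      rw [pow_two, mul_inv_rev]; exact this
    rw [← conj_pow, h1, inv_pow]
  have hni : T ^ k * n * (T ^ k)⁻¹ = n⁻¹ := by
    have h1 : φ (X ^ 2 * T * (X ^ 2)⁻¹) = (φ T)⁻¹ := by
      have := hinv 1
      rw [pow_one] at this
      rw [this, map_inv]
    rw [map_mul, map_mul, map_inv, map_pow, hx, show φ T = n * T ^ k by rw [hn]; group] at h1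
    have h2 : X ^ 2 * (n * T ^ k) * (X ^ 2)⁻¹ = n * (T ^ k)⁻¹ := by
      rw [← hinv k, ← mul_assoc (X ^ 2) n, (sq_comm hb hkN).eq]; group
    rw [h2, mul_inv_rev] at h1
    calc T ^ k * n * (T ^ k)⁻¹ = T ^ k * (n * (T ^ k)⁻¹) := by group
      _ = n⁻¹ := by rw [h1]; group
  have hct : Commute n T :=
    commute_of_conj_pow hb horb hC hkN hk (by rw [hni]; exact inv_mem hkN)
  have hn2 : n = n⁻¹ := by
    rw [← hni, ← (hct.pow_right k).eq, mul_inv_cancel_right]
  have hn1 : n = 1 := by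
    have h5 : n ^ 5 = 1 := by
      have e : φ T = n * T ^ k := by rw [hn]; group
      rw [e, (hct.pow_right k).mul_pow, ← pow_mul, T_pow_mod, Nat.mul_mod_left, pow_zero,
        mul_one] at ht5
      exact ht5
    have h2 : n ^ 2 = 1 := by rw [pow_two]; nth_rw 2 [hn2]; exact mul_inv_cancel n
    rwa [show 5 = 2 * 2 + 1 from rfl, pow_add, pow_mul, h2, one_pow, one_mul, pow_one] at h5
  have hT : φ T = T ^ (k % 5) := by
    rw [← T_pow_mod, ← mul_inv_eq_one, ← hn]; exact hn1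
  have hcube : (Z * T ^ (k % 5)) ^ 3 = 1 := by
    rw [← hT]; nth_rw 1 [← hz]
    rw [← map_mul, ← map_pow, ZT_cube, map_one]
  have h14 : k % 5 = 1 ∨ k % 5 = 4 := by
    have h5 : k % 5 < 5 := Nat.mod_lt _ (by norm_num)
    rcases (show k % 5 = 1 ∨ k % 5 = 2 ∨ k % 5 = 3 ∨ k % 5 = 4 by omega) with h | h | h | h
    · exact Or.inl h
    · rw [h] at hcube; exact absurd hcube cube_ne.1
    · rw [h] at hcube; exact absurd hcube cube_ne.2
    · exact Or.inr h
  rcases h14 with h | h <;> rw [h] at hT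
  · have : φ = 1 := aut_ext_gens hx hy hz (by rw [hT, pow_one]; rfl)
    rw [this]; exact one_mem _
  · have key : ∀ g ∈ HN51.Nsub, MulAut.conj (X ^ 2) g = g := fun g hg => by
      rw [MulAut.conj_apply, (sq_comm hb hg).eq, mul_inv_cancel_right]
    have : φ = MulAut.conj (X ^ 2) := by
      refine aut_ext_gens ?_ ?_ ?_ ?_
      · rw [hx, key _ X_mem]
      · rw [hy, key _ Y_mem]
      · rw [hz, key _ Z_mem]
      · rw [hT, MulAut.conj_apply]
        have := hinv 1
        rw [pow_one] at this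
        rw [this]
        exact eq_inv_of_mul_eq_one_left (by rw [← pow_succ]; exact T_pow_five)
    rw [this]; exact ⟨_, rfl⟩

include hb hcov horb hC in
/-- The outer automorphism group has order two. -/
theorem card_out (hinj : Function.Injective HN133.rep) : Nat.card (Cfsg.Out GHN) = 2 := by
  refine Mathieu.card_out_eq_two (beta hinj) (beta_not_inner hinj) fun φ => ?_
  obtain ⟨g, hg⟩ := exists_conj_sq hb hcov horb φ
  set φ₁ := MulAut.conj g * φ with hφ₁
  have h₁ : φ₁ (X ^ 2) = X ^ 2 := hg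
  obtain ⟨m, hm, hnear⟩ := exists_conj_near hb hcov h₁
  set φ₂ := MulAut.conj m⁻¹ * φ₁ with hφ₂
  have happ : ∀ n, φ₂ n = m⁻¹ * φ₁ n * m := fun n => by
    rw [hφ₂, MulAut.mul_apply, MulAut.conj_apply, inv_inv]
  have hnear₂ : ∀ n ∈ HN51.Nsub, φ₂ n = n ∨ φ₂ n = n * X ^ 2 := fun n hn => by
    rw [happ]; exact hnear n hn
  have h₂ : φ₂ (X ^ 2) = X ^ 2 := by
    rw [happ, h₁, mul_assoc, (sq_comm hb hm).eq, inv_mul_cancel_left]
  obtain ⟨hX, hY⟩ := fix_X_Y hb h₂ hnear₂
  have hback : φ = MulAut.conj (g⁻¹ * m) * φ₂ := by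
    rw [hφ₂, hφ₁, ← mul_assoc, ← mul_assoc, ← map_mul, ← map_mul,
      show g⁻¹ * m * m⁻¹ * g = 1 by group, map_one, one_mul]
  have hinn : MulAut.conj (g⁻¹ * m) ∈ Cfsg.Inn GHN := ⟨_, rfl⟩
  rcases hnear₂ Z Z_mem with hZ | hZ
  · left
    rw [hback]
    exact mul_mem hinn (inn_of_fix hb hcov horb hC hX hY hZ)
  · right
    rw [hback, mul_assoc]
    refine mul_mem hinn (inn_of_fix hb hcov horb hC ?_ ?_ ?_)
    · rw [MulAut.mul_apply, show beta hinj X = X from beta_apply hinj _, hX]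
    · rw [MulAut.mul_apply, show beta hinj Y = Y from beta_apply hinj _, hY]
    · rw [MulAut.mul_apply, show beta hinj Z = Z * X ^ 2 from beta_apply hinj _, map_mul, hZ, h₂,
        mul_assoc, sq_sq hb, mul_one]

end CfsgLib.HNAut3
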