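import Cfsg.Agent.HNCover80.Final
import Cfsg.Agent.HNOrder51.Base
import Cfsg.Agent.HNAut3.HS

/-!
The subgroup generated by `x, y, z` of the presented Harada–Norton group as a double cover of the
automorphism group of the Higman–Sims graph, given the bound on the ten relators.
-/

set_option autoImplicit false

namespace CfsgLib.HNAut3

open Cfsg CfsgLib.HN51

theorem HN51_Nsub_eq : HN51.Nsub = HNCover80.Sxyz := by
  rw [HN51.Nsub_eq, HNCover80.Sxyz]
  rfl

theorem X_sq_ne : X ^ 2 ≠ 1 := HNCover80.x_sq_ne_one'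

/-- The image of `x`, `y`, `z` on the 100 points. -/
abbrev W : Subgroup (Equiv.Perm (Fin 100)) := HNCover80.toPerm'.range

/-- The even part. -/
abbrev KW : Subgroup W := HSCover.K.subgroupOf W

instance KW_normal : KW.Normal :=
  ⟨fun _ ha g => HNCover80.conj_mem_K g.2 ha⟩

theorem K_or_mul_mem {g : Equiv.Perm (Fin 100)} (hg : g ∈ W) :
    g ∈ HSCover.K ∨ g * HNCover80.hperm 9 ∈ HSCover.K := by
  rw [W, HNCover80.toPerm'_range] at hg
  have h9 := HNCover80.hperm_nine_sq
  have step : ∀ g : Equiv.Perm (Fin 100),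
      (g ∈ HSCover.K ∨ g * HNCover80.hperm 9 ∈ HSCover.K) →
      (HNCover80.hperm 9 * g ∈ HSCover.K ∨
        HNCover80.hperm 9 * g * HNCover80.hperm 9 ∈ HSCover.K) := by
    rintro g (hg | hg)
    · exact Or.inr (HNCover80.K_conj hg)
    · refine Or.inl ?_
      have := HNCover80.K_conj hg
      rwa [← mul_assoc, mul_assoc _ (HNCover80.hperm 9), h9, mul_one] at this
  have stepK : ∀ s ∈ HSCover.K, ∀ g : Equiv.Perm (Fin 100),
      (g ∈ HSCover.K ∨ g * HNCover80.hperm 9 ∈ HSCover.K) →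
      (s * g ∈ HSCover.K ∨ s * g * HNCover80.hperm 9 ∈ HSCover.K) := by
    rintro s hs g (hg | hg)
    · exact Or.inl (mul_mem hs hg)
    · exact Or.inr (by rw [mul_assoc]; exact mul_mem hs hg)
  refine Subgroup.closure_induction_left
    (p := fun g _ => g ∈ HSCover.K ∨ g * HNCover80.hperm 9 ∈ HSCover.K)
    (Or.inl (one_mem _)) ?_ ?_ hg
  · rintro s hs g _ ih
    rcases hs with rfl | rfl | rfl
    · exact stepK _ HNCover80.hperm_seven_mem g ih
    · exact stepK _ HNCover80.hperm_eight_mem g ih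
    · exact step g ih
  · rintro s hs g _ ih
    rcases hs with rfl | rfl | rfl
    · exact stepK _ (inv_mem HNCover80.hperm_seven_mem) g ih
    · exact stepK _ (inv_mem HNCover80.hperm_eight_mem) g ih
    · rw [inv_eq_of_mul_eq_one_left h9]; exact step g ih

theorem nine_mem_W : HNCover80.hperm 9 ∈ W := by
  rw [W, HNCover80.toPerm'_range]; exact Subgroup.subset_closure (by simp)

theorem index_KW : KW.index = 2 := by
  rw [Subgroup.index_eq_two_iff]
  refine ⟨⟨_, nine_mem_W⟩, fun b => ?_⟩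
  rcases K_or_mul_mem b.2 with h | h
  · refine Or.inr ⟨h, fun h' => HNCover80.hperm_nine_notMem ?_⟩
    have := mul_mem (inv_mem h) (show (b : Equiv.Perm (Fin 100)) * HNCover80.hperm 9 ∈ HSCover.K
      from h')
    rwa [← mul_assoc, inv_mul_cancel, one_mul] at this
  · refine Or.inl ⟨h, fun h' => HNCover80.hperm_nine_notMem ?_⟩
    have := mul_mem (inv_mem (show (b : Equiv.Perm (Fin 100)) ∈ HSCover.K from h')) h
    rwa [← mul_assoc, inv_mul_cancel, one_mul] at this

/-- The even part is the Higman–Sims group. -/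
theorem exists_KW_equiv : Nonempty (KW ≃* ↥Spor.HS) := by
  obtain ⟨e⟩ := HSCover.nonempty_equiv
  exact ⟨(Subgroup.subgroupOfEquivOfLe HNCover80.K_le_range).trans e⟩

theorem centralizer_KW : Subgroup.centralizer (KW : Set W) = ⊥ := by
  rw [eq_bot_iff]
  intro w hw
  rw [Subgroup.mem_bot]
  refine Subtype.ext (HNCover80.eq_one_of_commute fun k hk => ?_)
  have h := Subgroup.mem_centralizer_iff.1 hw
    ⟨_, HNCover80.K_le_range (HSCover.gperm_mem hk)⟩ (HSCover.gperm_mem hk)
  exact (congrArg Subtype.val h).symm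

theorem card_W : Nat.card W = 88704000 := by
  rw [← KW.index_mul_card, index_KW,
    Nat.card_congr (Subgroup.subgroupOfEquivOfLe HNCover80.K_le_range).toEquiv, HSCover.card_K]

theorem KW_eq_commutator : ∀ k ∈ KW, k ∈ commutator W := by
  intro k hk
  have : (k : Equiv.Perm (Fin 100)) ∈ (commutator W).map W.subtype := by
    rw [Subgroup.map_subtype_commutator]
    refine Subgroup.commutator_mono HNCover80.K_le_range HNCover80.K_le_range ?_
    rw [← Subgroup.map_subtype_commutator, HSCover.perfect_K]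
    exact ⟨⟨k.1, hk⟩, Subgroup.mem_top _, rfl⟩
  obtain ⟨m, hm, e⟩ := this
  exact Subtype.ext e ▸ hm

theorem commutator_le_KW : commutator W ≤ KW := by
  rw [commutator_def, Subgroup.commutator_le]
  intro a _ b _
  have hiff : ∀ u v : W, u * v ∈ KW ↔ (u ∈ KW ↔ v ∈ KW) := fun u v =>
    Subgroup.mul_mem_iff_of_index_two index_KW
  rw [commutatorElement_def, hiff, hiff, hiff, inv_mem_iff, inv_mem_iff]
  by_cases a ∈ KW <;> by_cases b ∈ KW <;> simp [*]

variable (hb : HNCover80.TenBound)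

/-- The cover as a subgroup of the presented group. -/
noncomputable def pairsEquiv : HNCover80.pairs ≃* HN51.Nsub :=
  (MonoidHom.ofInjective (HNCover80.toHN_injective hb)).trans
    (MulEquiv.subgroupCongr (HNCover80.toHN_range.trans HN51_Nsub_eq.symm))

/-- The action on 100 points. -/
noncomputable def perm : HN51.Nsub →* W :=
  HNCover80.toPerm'.rangeRestrict.comp (pairsEquiv hb).symm.toMonoidHom

theorem perm_surjective : Function.Surjective (perm hb) :=
  HNCover80.toPerm'.rangeRestrict_surjective.comp (pairsEquiv hb).symm.surjective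

theorem perm_of_pair (p : HNCover80.pairs) {n : HN51.Nsub}
    (h : (n : Cfsg.Spor.HN) = HNCover80.toHN p) :
    (perm hb n : Equiv.Perm (Fin 100)) = HNCover80.toPerm' p := by
  show HNCover80.toPerm' ((pairsEquiv hb).symm n) = _
  refine congrArg _ ((pairsEquiv hb).injective ?_)
  rw [MulEquiv.apply_symm_apply]
  exact Subtype.ext h

theorem perm_X : perm hb ⟨X, X_mem⟩ ∈ KW := by
  show (perm hb ⟨X, X_mem⟩ : Equiv.Perm (Fin 100)) ∈ HSCover.K
  rw [perm_of_pair hb ⟨(HNCover80.hg .x, HNCover80.hperm 7), Subgroup.subset_closure (by simp)⟩ rfl]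
  exact HNCover80.hperm_seven_mem

theorem perm_Y : perm hb ⟨Y, Y_mem⟩ ∈ KW := by
  show (perm hb ⟨Y, Y_mem⟩ : Equiv.Perm (Fin 100)) ∈ HSCover.K
  rw [perm_of_pair hb ⟨(HNCover80.hg .y, HNCover80.hperm 8), Subgroup.subset_closure (by simp)⟩ rfl]
  exact HNCover80.hperm_eight_mem

theorem perm_sq : perm hb ⟨X ^ 2, pow_mem X_mem 2⟩ = 1 := by
  refine Subtype.ext ?_
  rw [perm_of_pair hb ⟨(HNCover80.hg .x ^ 2, 1), ?_⟩ rfl]
  exact HNCover80.toPerm'_sq

theorem perm_eq_one {n : HN51.Nsub} (h : perm hb n = 1) :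
    (n : Cfsg.Spor.HN) = 1 ∨ (n : Cfsg.Spor.HN) = X ^ 2 := by
  obtain ⟨p, rfl⟩ := (pairsEquiv hb).surjective n
  have h' : HNCover80.toPerm' p = 1 := by
    rw [← perm_of_pair hb p (n := pairsEquiv hb p) rfl, h]; rfl
  exact HNCover80.ker_toPerm' hb h'

theorem card_ker : Nat.card (perm hb).ker = 2 := by
  refine Nat.card_eq_two_iff.2 ⟨1, ⟨⟨X ^ 2, pow_mem X_mem 2⟩, perm_sq hb⟩, fun e => X_sq_ne ?_, ?_⟩
  · exact (congrArg (fun v : (perm hb).ker => ((v : HN51.Nsub) : Cfsg.Spor.HN)) e).symm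
  · refine Set.eq_univ_of_forall fun v => ?_
    rcases perm_eq_one hb v.2 with h | h
    · exact Or.inl (Subtype.ext (Subtype.ext h))
    · exact Or.inr (Subtype.ext (Subtype.ext h))

include hb in
theorem card_Nsub : Nat.card HN51.Nsub = 177408000 := by
  rw [← (perm hb).ker.index_mul_card, Subgroup.index_ker, card_ker,
    MonoidHom.range_eq_top.2 (perm_surjective hb), Subgroup.card_top, card_W]

include hb in
theorem finite_Nsub : Finite HN51.Nsub :=
  Nat.finite_of_card_ne_zero (by rw [card_Nsub hb]; norm_num)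

include hb in
/-- The square of `x` is central. -/
theorem sq_comm {n : Cfsg.Spor.HN} (hn : n ∈ HN51.Nsub) : Commute (X ^ 2) n := by
  have hk : (⟨X ^ 2, pow_mem X_mem 2⟩ : HN51.Nsub) ∈ (perm hb).ker := perm_sq hb
  have hc := ((perm hb).normal_ker).conj_mem _ hk ⟨n, hn⟩
  rcases perm_eq_one hb (MonoidHom.mem_ker.1 hc) with h | h
  · exfalso
    simp only [Subgroup.coe_mul, InvMemClass.coe_inv] at h
    exact X_sq_ne (by simpa using h)
  · simp only [Subgroup.coe_mul, InvMemClass.coe_inv] at h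
    exact (mul_inv_eq_iff_eq_mul.1 h).symm

include hb in
theorem sq_sq : X ^ 2 * X ^ 2 = 1 := by
  have hk : perm hb (⟨X ^ 2, pow_mem X_mem 2⟩ * ⟨X ^ 2, pow_mem X_mem 2⟩) = 1 := by
    rw [map_mul, perm_sq, one_mul]
  rcases perm_eq_one hb hk with h | h
  · exact h
  · exact absurd (mul_eq_left.1 h) X_sq_ne

end CfsgLib.HNAut3
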